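import Groth.Agent.SerreDMinus.Resolution
import Mathlib.Algebra.Homology.DerivedCategory.ExactFunctor
import Mathlib.Algebra.Homology.DerivedCategory.Fractions
import Mathlib.Algebra.Homology.DerivedCategory.TStructure
import Mathlib.CategoryTheory.Abelian.Subcategory
import Mathlib.Algebra.Homology.QuasiIso

/-!
# `D⁻(P) ≃ D⁻_P(A)` for a Serre class with lifts
-/

set_option autoImplicit false

universe w w' v u

open CategoryTheory CategoryTheory.Limits HomologicalComplex DerivedCategory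

namespace Groth.Agent.SerreDMinus

variable {A : Type u} [Category.{v} A] [Abelian A] [HasDerivedCategory.{w} A]
  (P : ObjectProperty A) [P.IsSerreClass] [P.IsClosedUnderKernels] [P.IsClosedUnderCokernels]
  [P.IsClosedUnderFiniteProducts] [HasDerivedCategory.{w'} P.FullSubcategory]
  [PreservesFiniteLimits P.ι] [PreservesFiniteColimits P.ι]

/-- The functor from complexes in `P` to complexes in `A`. -/
noncomputable abbrev incl : CochainComplex P.FullSubcategory ℤ ⥤ CochainComplex A ℤ :=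
  P.ι.mapHomologicalComplex (ComplexShape.up ℤ)

omit [HasDerivedCategory.{w} A] [HasDerivedCategory.{w'} P.FullSubcategory]
  [PreservesFiniteLimits P.ι] [PreservesFiniteColimits P.ι] in
lemma prop_homology_incl (M : CochainComplex P.FullSubcategory ℤ) (i : ℤ) :
    P (((incl P).obj M).homology i) :=
  P.prop_of_epi (((incl P).obj M).homologyπ i)
    (P.prop_of_mono (((incl P).obj M).iCycles i) (M.X i).property)

variable {P}

omit [HasDerivedCategory.{w} A] [HasDerivedCategory.{w'} P.FullSubcategory] in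
lemma quasiIso_of_incl {M N : CochainComplex P.FullSubcategory ℤ} (σ : M ⟶ N)
    (h : QuasiIso ((incl P).map σ)) : QuasiIso σ :=
  (quasiIso_map_iff_of_preservesHomology σ P.ι).1 h

variable (hlift : HasLifts P) (b : ℤ)

omit [HasDerivedCategory.{w'} P.FullSubcategory] in
include hlift in
/-- A quasi-isomorphism into a complex coming from `P` can be refined by one coming from `P`. -/
lemma exists_refine {N : CochainComplex P.FullSubcategory ℤ} {X : CochainComplex A ℤ}
    [X.IsStrictlyLE b] (s : X ⟶ (incl P).obj N) (hs : QuasiIso s) :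
    ∃ (M : CochainComplex P.FullSubcategory ℤ) (_ : M.IsStrictlyLE b) (σ : M ⟶ N)
      (t : (incl P).obj M ⟶ X), QuasiIso σ ∧ (incl P).map σ = t ≫ s := by
  have := hs
  have hH : ∀ i, P (X.homology i) := fun i =>
    P.prop_of_iso (asIso (homologyMap s i)).symm (prop_homology_incl P N i)
  obtain ⟨M, hM, t, ht⟩ := exists_quasiIso hlift hH b
  obtain ⟨σ, hσ⟩ := (incl P).map_surjective (t ≫ s)
  refine ⟨M, hM, σ, t, quasiIso_of_incl σ ?_, hσ⟩
  rw [hσ]
  infer_instance

variable {K₁ K₂ : CochainComplex P.FullSubcategory ℤ} [K₁.IsStrictlyLE b]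

omit [HasDerivedCategory.{w'} P.FullSubcategory] in
lemma mapDerivedCategory_map_Q {M N : CochainComplex P.FullSubcategory ℤ}
    [HasDerivedCategory.{w'} P.FullSubcategory] (f : M ⟶ N) :
    P.ι.mapDerivedCategory.map (Q.map f) = P.ι.mapDerivedCategoryFactors.hom.app M ≫
      Q.map ((incl P).map f) ≫ P.ι.mapDerivedCategoryFactors.inv.app N := by
  have h := P.ι.mapDerivedCategoryFactors_hom_naturality f
  rw [← reassoc_of% h]
  simp

include hlift b in
lemma map_surjective (ψ : P.ι.mapDerivedCategory.obj (Q.obj K₁) ⟶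
    P.ι.mapDerivedCategory.obj (Q.obj K₂)) :
    ∃ φ : Q.obj K₁ ⟶ Q.obj K₂, P.ι.mapDerivedCategory.map φ = ψ := by
  let α := P.ι.mapDerivedCategoryFactors
  obtain ⟨X, hX, s, hs, g, hg⟩ := right_fac_of_isStrictlyLE
    (α.inv.app K₁ ≫ ψ ≫ α.hom.app K₂ : Q.obj ((incl P).obj K₁) ⟶ Q.obj ((incl P).obj K₂)) b
  have hs' : QuasiIso s := (isIso_Q_map_iff_quasiIso _ s).1 hs
  obtain ⟨M, hM, σ, t, hσ, hst⟩ := exists_refine hlift b s hs'
  obtain ⟨τ, hτ⟩ := (incl P).map_surjective (t ≫ g)
  have : IsIso (Q.map σ) := (isIso_Q_map_iff_quasiIso _ σ).2 hσ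
  refine ⟨inv (Q.map σ) ≫ Q.map τ, ?_⟩
  rw [← cancel_epi (P.ι.mapDerivedCategory.map (Q.map σ)), ← Functor.map_comp,
    IsIso.hom_inv_id_assoc, mapDerivedCategory_map_Q, mapDerivedCategory_map_Q, hτ, hst,
    Functor.map_comp, Functor.map_comp]
  have hψ : ψ = α.hom.app K₁ ≫ (inv (Q.map s) ≫ Q.map g) ≫ α.inv.app K₂ := by
    rw [← hg]
    simp
  simp [hψ, α]

include hlift b in
lemma map_eq_zero (φ : Q.obj K₁ ⟶ Q.obj K₂) (hφ : P.ι.mapDerivedCategory.map φ = 0) : φ = 0 := by
  obtain ⟨K, hK, s, hs, g, rfl⟩ := right_fac_of_isStrictlyLE φ b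
  suffices h : Q.map g = 0 by rw [h, comp_zero]
  have hg : Q.map ((incl P).map g) = 0 := by
    have h1 : P.ι.mapDerivedCategory.map (Q.map g) = 0 := by
      have := P.ι.mapDerivedCategory.map (Q.map s) ≫= hφ
      rwa [comp_zero, ← Functor.map_comp, IsIso.hom_inv_id_assoc] at this
    rw [mapDerivedCategory_map_Q] at h1
    simpa using P.ι.mapDerivedCategoryFactors.inv.app K ≫= h1 =≫
      P.ι.mapDerivedCategoryFactors.hom.app K₂
  let qA := HomotopyCategory.quotient A (ComplexShape.up ℤ)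
  have hg' : Qh.map (qA.map ((incl P).map g)) = Qh.map 0 := by
    rw [Functor.map_zero]
    have h := (quotientCompQhIso A).hom.naturality ((incl P).map g)
    rw [hg, comp_zero] at h
    rwa [← cancel_mono ((quotientCompQhIso A).hom.app _), zero_comp]
  obtain ⟨W, u, hu, hug⟩ := (MorphismProperty.map_eq_iff_precomp Qh
    (HomotopyCategory.quasiIso A _) _ _).1 hg'
  obtain ⟨W, rfl⟩ := HomotopyCategory.quotient_obj_surjective W
  obtain ⟨u, rfl⟩ := qA.map_surjective u
  rw [comp_zero, ← qA.map_comp] at hug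
  have hu' : QuasiIso u := (HomotopyCategory.quotient_map_mem_quasiIso_iff u).1 hu
  have : QuasiIso (CochainComplex.ιTruncLE W b) := by
    rw [CochainComplex.quasiIso_ιTruncLE_iff, CochainComplex.isLE_iff]
    intro i hi
    rw [exactAt_iff_isZero_homology]
    refine IsZero.of_iso ?_ (asIso (homologyMap u i))
    have hz : IsZero (((incl P).obj K).X i) :=
      P.ι.map_isZero (K.isZero_of_isStrictlyLE b i hi)
    exact (((incl P).obj K).exactAt_iff_isZero_homology i).1
      (ShortComplex.exact_of_isZero_X₂ _ hz)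
  obtain ⟨M, hM, σ, t, hσ, hst⟩ := exists_refine hlift b (CochainComplex.ιTruncLE W b ≫ u) inferInstance
  have h0 : qA.map ((incl P).map (σ ≫ g)) = qA.map ((incl P).map 0) := by
    rw [Functor.map_comp, hst, Functor.map_zero, Functor.map_zero, Category.assoc,
      Category.assoc, qA.map_comp, qA.map_comp, hug, comp_zero, comp_zero]
  have h1 := HomotopyCategory.eq_of_homotopy _ _
    (P.ι.preimageHomotopy (HomotopyCategory.homotopyOfEq _ _ h0))
  have h2 : Q.map (σ ≫ g) = 0 := by
    have h := (quotientCompQhIso P.FullSubcategory).hom.naturality (σ ≫ g)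
    rw [Functor.comp_map, h1, Functor.map_zero, Functor.map_zero, zero_comp] at h
    rw [← cancel_epi ((quotientCompQhIso P.FullSubcategory).hom.app _), ← h, comp_zero]
  have : IsIso (Q.map σ) := (isIso_Q_map_iff_quasiIso _ σ).2 hσ
  rw [Functor.map_comp] at h2
  rwa [← cancel_epi (Q.map σ), comp_zero]

include hlift b in
lemma bijective (M N : DerivedCategory P.FullSubcategory) (hM : M.IsLE b) :
    Function.Bijective (fun φ : M ⟶ N => P.ι.mapDerivedCategory.map φ) := by
  obtain ⟨K₁, hK₁, ⟨e₁⟩⟩ := exists_iso_Q_obj_of_isLE M b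
  let e₂ := (Q.objObjPreimageIso N).symm
  refine ⟨fun φ₁ φ₂ h => ?_, fun ψ => ?_⟩
  · rw [← sub_eq_zero, ← cancel_epi e₁.inv, ← cancel_mono e₂.hom, comp_zero, zero_comp]
    refine map_eq_zero hlift b _ ?_
    rw [Functor.map_comp, Functor.map_comp, Functor.map_sub, sub_eq_zero.2 h, comp_zero, zero_comp]
  · obtain ⟨φ, hφ⟩ := map_surjective hlift b
      (P.ι.mapDerivedCategory.map e₁.inv ≫ ψ ≫ P.ι.mapDerivedCategory.map e₂.hom)
    refine ⟨e₁.hom ≫ φ ≫ e₂.inv, ?_⟩
    change P.ι.mapDerivedCategory.map (e₁.hom ≫ φ ≫ e₂.inv) = ψ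
    rw [Functor.map_comp, Functor.map_comp, hφ]
    simp [← Functor.map_comp, ← Functor.map_comp_assoc]

include hlift in
lemma essImage (K : DerivedCategory A) (hK : K.IsLE b)
    (hP : ∀ n : ℤ, P ((DerivedCategory.homologyFunctor A n).obj K)) :
    ∃ M : DerivedCategory P.FullSubcategory,
      M.IsLE b ∧ Nonempty (P.ι.mapDerivedCategory.obj M ≅ K) := by
  obtain ⟨K₀, hK₀, ⟨e⟩⟩ := exists_iso_Q_obj_of_isLE K b
  have hH : ∀ i, P (K₀.homology i) := fun i => P.prop_of_iso
    ((DerivedCategory.homologyFunctor A i).mapIso e ≪≫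
      (DerivedCategory.homologyFunctorFactors A i).app K₀) (hP i)
  obtain ⟨M, hM, t, ht⟩ := exists_quasiIso hlift hH b
  have : IsIso (Q.map t) := (isIso_Q_map_iff_quasiIso _ t).2 ht
  exact ⟨Q.obj M, inferInstance,
    ⟨P.ι.mapDerivedCategoryFactors.app M ≪≫ asIso (Q.map t) ≪≫ e.symm⟩⟩

end Groth.Agent.SerreDMinus
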