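import Groth.Agent.DerivedCoh.KInj.Products
import Mathlib.Algebra.Homology.Factorizations.CM5a
import Mathlib.Algebra.Homology.DerivedCategory.TStructure

/-! Countable products of bounded below objects of the derived category. -/

set_option autoImplicit false

universe w v u

open CategoryTheory CategoryTheory.Limits

namespace Groth.Agent.SerreDMinus

variable {A : Type u} [Category.{v} A] [Abelian A] [HasDerivedCategory.{w} A]

open Groth.DerivedCoh.KInjRes in
/-- A family of K-injective complexes with a product has a product in the derived category. -/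
lemma hasProduct_Q_of_isKInjective {T : Type v} (I : T → CochainComplex A ℤ) [HasProduct I]
    (hI : ∀ t, (I t).IsKInjective) : HasProduct fun t => DerivedCategory.Q.obj (I t) := by
  have hP : (∏ᶜ I).IsKInjective := ⟨fun {K} f hK => homotopic_pi I f 0 fun t =>
    ⟨((hI t).nonempty_homotopy_zero (f ≫ Pi.π I t) hK).some.trans
      (Homotopy.ofEq zero_comp.symm)⟩⟩
  have hex : ∀ s : Fan (fun t => DerivedCategory.Q.obj (I t)),
      ∃! l : s.pt ⟶ DerivedCategory.Q.obj (∏ᶜ I),
        ∀ t, l ≫ DerivedCategory.Q.map (Pi.π I t) = s.proj t := fun s => by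
    let K := (DerivedCategory.Q (C := A)).objPreimage s.pt
    let ε : DerivedCategory.Q.obj K ≅ s.pt :=
      (DerivedCategory.Q (C := A)).objObjPreimageIso s.pt
    choose u hu using fun t => Q_map_surjective K (I t) (ε.hom ≫ s.proj t)
    refine ⟨ε.inv ≫ DerivedCategory.Q.map (Pi.lift u), fun t => ?_, fun l hl => ?_⟩
    · rw [Category.assoc, ← Functor.map_comp, Pi.lift_π, hu, Iso.inv_hom_id_assoc]
    · obtain ⟨a, ha⟩ := Q_map_surjective K _ (ε.hom ≫ l)
      rw [← cancel_epi ε.hom, Iso.hom_inv_id_assoc, ← ha, Q_map_eq_iff]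
      refine homotopic_pi I _ _ fun t => ?_
      rw [← Q_map_eq_iff, Functor.map_comp, ha, Category.assoc, hl, Pi.lift_π, hu]
  exact ⟨⟨⟨Fan.mk (DerivedCategory.Q.obj (∏ᶜ I)) fun t => DerivedCategory.Q.map (Pi.π I t),
    Fan.IsLimit.mk _ (fun s => (hex s).choose) (fun s t => (hex s).choose_spec.1 t)
      (fun s m hm => (hex s).choose_spec.2 m hm)⟩⟩⟩

/-- Countable products of bounded below objects exist in the derived category. -/
theorem hasProduct_of_boundedBelow [HasLimitsOfShape (Discrete ℕ) A] [EnoughInjectives A]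
    (K : ℕ → DerivedCategory A) (hK : ∀ n, ∃ a : ℤ, (K n).IsGE a) : HasProduct K := by
  have h : ∀ n, ∃ I : CochainComplex A ℤ, I.IsKInjective ∧
      Nonempty (DerivedCategory.Q.obj I ≅ K n) := fun n => by
    obtain ⟨a, ha⟩ := hK n
    obtain ⟨L, hL, ⟨e⟩⟩ := DerivedCategory.exists_iso_Q_obj_of_isGE (K n) a
    obtain ⟨I, i, hi, hI, hI'⟩ := CochainComplex.Plus.modelCategoryQuillen.exists_quasiIso_injective L a
    have := hI
    have : IsIso (DerivedCategory.Q.map i) :=
      (DerivedCategory.isIso_Q_map_iff_quasiIso _ i).2 hi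
    exact ⟨I, CochainComplex.isKInjective_of_injective I a,
      ⟨(asIso (DerivedCategory.Q.map i)).symm ≪≫ e.symm⟩⟩
  choose I hI hI' using h
  have : HasLimitsOfShape (Discrete (ULift.{v} ℕ)) A :=
    hasLimitsOfShape_of_equivalence (Discrete.equivalence Equiv.ulift.symm)
  have := hasProduct_Q_of_isKInjective (fun t : ULift.{v} ℕ => I t.down) (fun t => hI t.down)
  exact hasProduct_of_equiv_of_iso (fun t : ULift.{v} ℕ => DerivedCategory.Q.obj (I t.down)) K
    Equiv.ulift.symm (fun n => (hI' n).some.symm)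

end Groth.Agent.SerreDMinus
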