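import Mathlib.Algebra.Homology.Refinements
import Mathlib.Algebra.Homology.Embedding.CochainComplex
import Mathlib.Algebra.Homology.ShortComplex.HomologicalComplex
import Mathlib.Algebra.Homology.Additive
import Mathlib.Algebra.Homology.QuasiIso
import Mathlib.CategoryTheory.Abelian.SerreClass.Basic
import Mathlib.CategoryTheory.ObjectProperty.FiniteProducts

/-!
# Bounded above complexes with homology in a Serre class

If every epimorphism onto an object of a Serre class `P` restricts to an epimorphism from a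
subobject in `P`, then a bounded above complex with homology in `P` receives a quasi-isomorphism
from a bounded above complex with terms in `P`.
-/

set_option autoImplicit false

universe v u

open CategoryTheory CategoryTheory.Limits HomologicalComplex

namespace Groth.Agent.SerreDMinus

variable {A : Type u} [Category.{v} A] [Abelian A] (P : ObjectProperty A)

/-- Every epimorphism onto an object in `P` restricts to one from a subobject in `P`. -/
def HasLifts : Prop :=
  ∀ (X Y : A) (π : X ⟶ Y), Epi π → P Y → ∃ (X' : A) (i : X' ⟶ X), Mono i ∧ P X' ∧ Epi (i ≫ π)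

variable (K : CochainComplex A ℤ)

/-- A subobject in `P` of the `i`th term of `K`. -/
structure Piece (i : ℤ) where
  obj : A
  j : obj ⟶ K.X i
  mono : Mono j
  mem : P obj

attribute [instance] Piece.mono

variable {P K}

/-- The condition relating the pieces in two consecutive degrees. -/
def Good (i : ℤ) (s : Piece P K i) (s' : Piece P K (i + 1)) : Prop :=
  ∃ d : s.obj ⟶ s'.obj, d ≫ s'.j = s.j ≫ K.d i (i + 1) ∧
    (∀ ⦃T : A⦄ (z : T ⟶ s'.obj) (w : T ⟶ K.X i), z ≫ s'.j = w ≫ K.d i (i + 1) →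
      ∃ (T' : A) (π : T' ⟶ T) (_ : Epi π) (l : T' ⟶ s.obj), π ≫ z = l ≫ d) ∧
    (∀ ⦃T : A⦄ (z : T ⟶ K.X i), z ≫ K.d i (i + 1) = 0 →
      ∃ (T' : A) (π : T' ⟶ T) (_ : Epi π) (x : T' ⟶ s.obj) (_ : x ≫ d = 0)
        (w : T' ⟶ K.X (i - 1)), π ≫ z = x ≫ s.j + w ≫ K.d (i - 1) i)

variable [P.IsSerreClass]

lemma exists_good (hlift : HasLifts P) (hH : ∀ i, P (K.homology i)) (i : ℤ)
    (s' : Piece P K (i + 1)) : ∃ s : Piece P K i, Good i s s' := by
  let e₁ := factorThruImage (pullback.fst s'.j (K.d i (i + 1)))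
  have hI : P (image (pullback.fst s'.j (K.d i (i + 1)))) := P.prop_of_mono (image.ι _) s'.mem
  obtain ⟨X₁, i₁, -, hX₁, he₁⟩ := hlift _ _ e₁ inferInstance hI
  obtain ⟨X₂, i₂, -, hX₂, he₂⟩ := hlift _ _ (K.homologyπ i) inferInstance (hH i)
  let f : X₁ ⊞ X₂ ⟶ K.X i := biprod.desc (i₁ ≫ pullback.snd _ _) (i₂ ≫ K.iCycles i)
  have hL : P (image f) := P.prop_of_epi (factorThruImage f) (P.prop_biprod hX₁ hX₂)
  have hfd : f ≫ K.d i (i + 1) =
      biprod.desc (i₁ ≫ pullback.fst s'.j (K.d i (i + 1))) 0 ≫ s'.j := by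
    apply biprod.hom_ext'
    · simp [f, pullback.condition]
    · simp [f]
  have hcok : image.ι f ≫ K.d i (i + 1) ≫ cokernel.π s'.j = 0 := by
    rw [← cancel_epi (factorThruImage f), comp_zero, image.fac_assoc, reassoc_of% hfd,
      cokernel.condition, comp_zero]
  let d : image f ⟶ s'.obj := Abelian.monoLift s'.j (image.ι f ≫ K.d i (i + 1))
    (by rw [Category.assoc, hcok])
  have hd : d ≫ s'.j = image.ι f ≫ K.d i (i + 1) := Abelian.monoLift_comp _ _ _
  have hqd : factorThruImage f ≫ d = biprod.desc (i₁ ≫ pullback.fst s'.j (K.d i (i + 1))) 0 := by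
    rw [← cancel_mono s'.j, Category.assoc, hd, image.fac_assoc, hfd]
  refine ⟨⟨image f, image.ι f, inferInstance, hL⟩, d, hd, ?_, ?_⟩
  · intro T z w hzw
    obtain ⟨T', π, hπ, x, hx⟩ := surjective_up_to_refinements_of_epi (i₁ ≫ e₁)
      (pullback.lift z w hzw ≫ e₁)
    refine ⟨T', π, hπ, x ≫ biprod.inl ≫ factorThruImage f, ?_⟩
    have := hx =≫ image.ι (pullback.fst s'.j (K.d i (i + 1)))
    simp [e₁] at this
    rw [pullback.lift_fst] at this
    simp [hqd, this]
  · intro T z hz
    let zc := K.liftCycles z (i + 1) (by simp) hz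
    obtain ⟨T', π, hπ, x, hx⟩ := surjective_up_to_refinements_of_epi (i₂ ≫ K.homologyπ i)
      (zc ≫ K.homologyπ i)
    rw [← Category.assoc, ← Category.assoc x,
      K.comp_homologyπ_eq_iff_up_to_refinements (i - 1) i (by simp)] at hx
    obtain ⟨T'', π', hπ', w, hw⟩ := hx
    refine ⟨T'', π' ≫ π, epi_comp _ _, π' ≫ x ≫ biprod.inr ≫ factorThruImage f, ?_, w, ?_⟩
    · simp [hqd]
    · simpa [zc, f] using hw =≫ K.iCycles i

/-- A bounded above complex with homology in `P` receives a quasi-isomorphism from a bounded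
above complex with terms in `P`. -/
theorem exists_quasiIso [P.IsClosedUnderFiniteProducts] (hlift : HasLifts P)
    (hH : ∀ i, P (K.homology i)) (b : ℤ) [K.IsStrictlyLE b] :
    ∃ (M : CochainComplex P.FullSubcategory ℤ) (_ : M.IsStrictlyLE b)
      (s : (P.ι.mapHomologicalComplex (ComplexShape.up ℤ)).obj M ⟶ K), QuasiIso s := by
  obtain ⟨Z, hZ, hPZ⟩ := P.exists_prop_of_containsZero
  let zeroPiece : ∀ i, Piece P K i := fun i =>
    ⟨Z, 0, ⟨fun a c _ => hZ.eq_of_tgt a c⟩, hPZ⟩
  choose next hnext using exists_good (K := K) hlift hH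
  let T : ℕ → ∀ i, Piece P K i := fun k => Nat.rec zeroPiece
    (fun k S => Function.update S (b - k) (next (b - k) (S (b - k + 1)))) k
  let S : ∀ i, Piece P K i := fun i => T (b + 1 - i).toNat i
  have hSzero : ∀ i, b < i → S i = zeroPiece i := fun i hi => by
    change T (b + 1 - i).toNat i = _
    rw [show (b + 1 - i).toNat = 0 by lia]
    rfl
  have hS : ∀ i, Good i (S i) (S (i + 1)) := by
    intro i
    by_cases hi : b < i
    · rw [hSzero i hi, hSzero (i + 1) (by lia)]
      have hK : IsZero (K.X i) := K.isZero_of_isStrictlyLE b i hi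
      refine ⟨0, hZ.eq_of_src _ _, fun T z w _ => ⟨T, 𝟙 T, inferInstance, 0, ?_⟩,
        fun T z _ => ⟨T, 𝟙 T, inferInstance, 0, zero_comp, 0, hK.eq_of_tgt _ _⟩⟩
      exact hZ.eq_of_tgt _ _
    · obtain ⟨k, rfl⟩ : ∃ k : ℕ, i = b - k := ⟨(b - i).toNat, by lia⟩
      have h1 : S (b - k) = next (b - k) (T k (b - k + 1)) := by
        change T (b + 1 - (b - k)).toNat (b - k) = _
        rw [show (b + 1 - (b - (k : ℤ))).toNat = k + 1 by lia]
        exact Function.update_self _ _ _
      have h2 : S (b - k + 1) = T k (b - k + 1) := by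
        change T (b + 1 - (b - k + 1)).toNat (b - k + 1) = _
        rw [show (b + 1 - (b - (k : ℤ) + 1)).toNat = k by lia]
      rw [h1, h2]
      exact hnext _ _
  choose d hd hmono hepi using hS
  have hdd : ∀ i, d i ≫ d (i + 1) = 0 := fun i => by
    rw [← cancel_mono (S (i + 1 + 1)).j, Category.assoc, hd, reassoc_of% hd, zero_comp,
      K.d_comp_d, comp_zero]
  let M : CochainComplex P.FullSubcategory ℤ :=
    CochainComplex.of (fun i => ⟨(S i).obj, (S i).mem⟩) (fun i => ObjectProperty.homMk (d i))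
      (fun i => by
        apply P.ι.map_injective
        simpa using hdd i)
  let FM := (P.ι.mapHomologicalComplex (ComplexShape.up ℤ)).obj M
  have hFd : ∀ i, FM.d i (i + 1) = d i := fun i =>
    congrArg P.ι.map (CochainComplex.of_d (fun i => (⟨(S i).obj, (S i).mem⟩ : P.FullSubcategory))
      (fun i => ObjectProperty.homMk (d i)) i)
  let s : FM ⟶ K :=
    { f := fun i => (S i).j
      comm' := fun i i' h => by
        obtain rfl : i + 1 = i' := h
        rw [hFd]
        exact (hd i).symm }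
  refine ⟨M, ?_, s, ⟨fun i => ?_⟩⟩
  · rw [CochainComplex.isStrictlyLE_iff]
    intro i hi
    refine IsZero.of_full_of_faithful_of_isZero P.ι _ ?_
    change IsZero (S i).obj
    rw [hSzero i hi]
    exact hZ
  · rw [quasiIsoAt_iff_isIso_homologyMap]
    have : Mono (homologyMap s i) := by
      obtain ⟨i, rfl⟩ : ∃ i' : ℤ, i = i' + 1 := ⟨i - 1, by lia⟩
      rw [mono_homologyMap_iff_up_to_refinements s i (i + 1) (i + 1 + 1) (by simp) (by simp)]
      intro T x _ y hy
      obtain ⟨T', π, hπ, l, hl⟩ := hmono i x y hy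
      exact ⟨T', π, hπ, l, (by rw [hFd]; exact hl)⟩
    have : Epi (homologyMap s i) := by
      rw [epi_homologyMap_iff_up_to_refinements s (i - 1) i (i + 1) (by simp) (by simp)]
      intro T y hy
      obtain ⟨T', π, hπ, x, hx, w, hw⟩ := hepi i y hy
      exact ⟨T', π, hπ, x, (by rw [hFd]; exact hx), w, hw⟩
    exact isIso_of_mono_of_epi _

end Groth.Agent.SerreDMinus
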